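import Mathlib

/-!
# Algebra for Chevalley's criterion

Minimal primes of polynomial rings, quasi-finite algebras, and the generic point of a quasi-finite
cover of affine space.
-/

set_option autoImplicit false
set_option linter.style.haveILetI false

universe u

open MvPolynomial

namespace Groth.Agent.ChevalleyOpen

variable {A : Type u} [CommRing A] {σ : Type*}

/-- The extension of a prime to a polynomial ring. -/
noncomputable abbrev polyExt (p : Ideal A) : Ideal (MvPolynomial σ A) :=
  RingHom.ker (MvPolynomial.map (Ideal.Quotient.mk p))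

theorem mem_polyExt (p : Ideal A) (f : MvPolynomial σ A) :
    f ∈ polyExt p ↔ ∀ d, coeff d f ∈ p := by
  rw [RingHom.mem_ker, MvPolynomial.ext_iff]
  refine forall_congr' fun d => ?_
  rw [coeff_map, coeff_zero, Ideal.Quotient.eq_zero_iff_mem]

instance isPrime_polyExt (p : Ideal A) [p.IsPrime] : (polyExt (σ := σ) p).IsPrime :=
  RingHom.ker_isPrime _

theorem comap_polyExt (p : Ideal A) : (polyExt (σ := σ) p).comap C = p := by
  ext a
  rw [Ideal.mem_comap, mem_polyExt]
  classical
  refine ⟨fun h => by simpa using h 0, fun h d => ?_⟩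
  rw [coeff_C]
  split
  · exact h
  · exact p.zero_mem

theorem polyExt_le {p : Ideal A} {Q : Ideal (MvPolynomial σ A)} (h : p ≤ Q.comap C) :
    polyExt p ≤ Q := by
  intro f hf
  rw [f.as_sum]
  refine Ideal.sum_mem _ fun d _ => ?_
  rw [← mul_one (coeff d f), ← C_mul_monomial]
  exact Ideal.mul_mem_right _ _ (h ((mem_polyExt p f).mp hf d))

theorem polyExt_mem_minimalPrimes {p : Ideal A} (hp : p ∈ minimalPrimes A) :
    polyExt (σ := σ) p ∈ minimalPrimes (MvPolynomial σ A) := by
  haveI := hp.1.1
  refine ⟨⟨inferInstance, bot_le⟩, fun Q hQ hle => polyExt_le ?_⟩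
  haveI := hQ.1
  exact hp.2 ⟨Ideal.comap_isPrime _ _, bot_le⟩ ((Ideal.comap_mono hle).trans (comap_polyExt p).le)

theorem exists_eq_polyExt {Q : Ideal (MvPolynomial σ A)}
    (hQ : Q ∈ minimalPrimes (MvPolynomial σ A)) : ∃ p ∈ minimalPrimes A, Q = polyExt p := by
  haveI := hQ.1.1
  obtain ⟨p, hp, hple⟩ := Ideal.exists_minimalPrimes_le (I := (⊥ : Ideal A))
    (J := Q.comap (C (σ := σ))) bot_le
  haveI : p.IsPrime := hp.1.1
  exact ⟨p, hp, le_antisymm (hQ.2 ⟨inferInstance, bot_le⟩ (polyExt_le hple)) (polyExt_le hple)⟩

theorem finite_minimalPrimes_mvPolynomial (h : (minimalPrimes A).Finite) :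
    (minimalPrimes (MvPolynomial σ A)).Finite :=
  (h.image (polyExt (σ := σ))).subset fun _ hQ => by
    obtain ⟨p, hp, rfl⟩ := exists_eq_polyExt hQ
    exact ⟨p, hp, rfl⟩

/-- An algebra of finite type which is quasi-finite at every prime not containing `g` becomes
quasi-finite once `g` is inverted. -/
theorem quasiFinite_away {T B : Type u} [CommRing T] [CommRing B] [Algebra T B]
    [Algebra.FiniteType T B] (g : B)
    (h : ∀ (P : Ideal B) [P.IsPrime], g ∉ P → Algebra.QuasiFiniteAt T P) :
    Algebra.QuasiFinite T (Localization.Away g) := by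
  haveI : Algebra.FiniteType B (Localization.Away g) :=
    IsLocalization.finiteType_of_monoid_fg (Submonoid.powers g) _
  haveI : Algebra.FiniteType T (Localization.Away g) :=
    Algebra.FiniteType.trans (inferInstance : Algebra.FiniteType T B) ‹_›
  refine Algebra.QuasiFinite.iff_finite_primesOver.mpr fun I hI => ?_
  let p : PrimeSpectrum T := ⟨I, hI⟩
  let F := p.asIdeal.Fiber (Localization.Away g)
  haveI : IsNoetherianRing F := Algebra.FiniteType.isNoetherianRing p.asIdeal.ResidueField F
  let e := PrimeSpectrum.preimageOrderIsoFiber T (Localization.Away g) p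
  have hinc : ∀ a b : {P : PrimeSpectrum (Localization.Away g) //
      PrimeSpectrum.comap (algebraMap T (Localization.Away g)) P = p}, a ≤ b → a = b := by
    intro a b hab
    have hg : g ∉ b.1.asIdeal.comap (algebraMap B (Localization.Away g)) := fun hg =>
      b.1.isPrime.ne_top (Ideal.eq_top_of_isUnit_mem _ hg
        (IsLocalization.Away.algebraMap_isUnit g))
    haveI := h _ hg
    have h1 : a.1.asIdeal.comap (algebraMap B (Localization.Away g)) =
        b.1.asIdeal.comap (algebraMap B (Localization.Away g)) := by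
      refine Algebra.QuasiFiniteAt.eq_of_le_of_under_eq (R := T) (Ideal.comap_mono hab) ?_
      simp only [Ideal.under, Ideal.comap_comap, ← IsScalarTower.algebraMap_eq]
      exact congrArg PrimeSpectrum.asIdeal (a.2.trans b.2.symm)
    exact Subtype.ext (PrimeSpectrum.localization_comap_injective (Localization.Away g)
      (Submonoid.powers g) (PrimeSpectrum.ext h1))
  have hfin : (Set.univ : Set (PrimeSpectrum F)).Finite := by
    refine ((minimalPrimes.finite_of_isNoetherianRing F).preimage
      (fun a _ b _ hab => PrimeSpectrum.ext hab)).subset fun a _ => ?_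
    refine PrimeSpectrum.isMin_iff.1 fun b hb => ?_
    have := hinc _ _ (e.symm.monotone hb)
    rw [e.symm.injective this]
  haveI : Finite (PrimeSpectrum F) := Set.finite_univ_iff.mp hfin
  haveI : Finite {P : PrimeSpectrum (Localization.Away g) //
      PrimeSpectrum.comap (algebraMap T (Localization.Away g)) P = p} :=
    Finite.of_equiv _ e.symm.toEquiv
  refine (Set.finite_range fun a : {P : PrimeSpectrum (Localization.Away g) //
      PrimeSpectrum.comap (algebraMap T (Localization.Away g)) P = p} => a.1.asIdeal).subset ?_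
  rintro J ⟨hJ, hJI⟩
  exact ⟨⟨⟨J, hJ⟩, PrimeSpectrum.ext hJI.over.symm⟩, rfl⟩

/-- A surjection from a polynomial algebra in `n` variables onto an algebra of transcendence degree
`n` is injective. -/
theorem injective_of_surjective_of_trdeg {R S : Type u} [CommRing R] [CommRing S] [IsDomain S]
    [Algebra R S] [FaithfulSMul R S] {n : ℕ} (π : MvPolynomial (Fin n) R →ₐ[R] S)
    (hπ : Function.Surjective π) (htr : Algebra.trdeg R S = n) : Function.Injective π := by
  have hadj : Algebra.adjoin R (Set.range fun i => π (X i)) = ⊤ := by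
    rw [Algebra.adjoin_range_eq_range_aeval,
      show MvPolynomial.aeval (fun i => π (X i)) = π from (MvPolynomial.aeval_unique π).symm]
    exact (AlgHom.range_eq_top π).mpr hπ
  haveI : Algebra.IsAlgebraic (Algebra.adjoin R (Set.range fun i => π (X i))) S :=
    ⟨fun s => isAlgebraic_algebraMap
      (R := ↥(Algebra.adjoin R (Set.range fun i => π (X i))))
      ⟨s, hadj ▸ Algebra.mem_top⟩⟩
  have h := (Algebra.IsAlgebraic.isTranscendenceBasis_of_lift_le_trdeg_of_finite R (A := S) (ι := Fin n)
    (fun i => π (X i)) (by rw [htr, Cardinal.mk_fin, Cardinal.lift_natCast, Cardinal.lift_natCast])).1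
  rwa [algebraicIndependent_iff_injective_aeval,
    show MvPolynomial.aeval (fun i => π (X i)) = π from (MvPolynomial.aeval_unique π).symm] at h

end Groth.Agent.ChevalleyOpen
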