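import Mathlib
import Groth.Agent.Unibranch.Open

/-!
# Quasi-finite morphisms to geometrically unibranch schemes with finitely many components locally

The criterion of `Groth.Agent.Unibranch.Open` only uses of the Noetherian hypothesis that affine
opens of the base have finitely many minimal primes.
-/

set_option autoImplicit false
set_option linter.style.haveILetI false
set_option backward.isDefEq.respectTransparency false
set_option backward.defeqAttrib.useBackward true

open CategoryTheory CategoryTheory.Limits AlgebraicGeometry Topology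

universe u

namespace Groth.Agent.ChevalleyOpen

open Groth.Agent.Unibranch

/-- Every affine open of the scheme has finitely many minimal primes. -/
def LocFinComp (Y : Scheme.{u}) : Prop :=
  ∀ W : Y.Opens, IsAffineOpen W → (minimalPrimes Γ(Y, W)).Finite

theorem locFinComp_of_isLocallyNoetherian (Y : Scheme.{u}) [IsLocallyNoetherian Y] :
    LocFinComp Y := fun W hW => by
  haveI : IsNoetherianRing Γ(Y, W) := IsLocallyNoetherian.component_noetherian ⟨W, hW⟩
  exact minimalPrimes.finite_of_isNoetherianRing Γ(Y, W)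

/-- A scheme with finitely many maximal points. -/
theorem locFinComp_of_finite {Y : Scheme.{u}}
    (h : {y : Y | ∀ y', y' ⤳ y → y' = y}.Finite) : LocFinComp Y := by
  intro W hW
  have hsub : minimalPrimes Γ(Y, W) ⊆
      (fun a : W => (hW.primeIdealOf a).asIdeal) '' {a : W | ∀ y', y' ⤳ a.1 → y' = a.1} := by
    intro P hP
    obtain ⟨a, rfl⟩ := exists_point_of_prime hW P hP.1.1
    refine ⟨a, fun y' hy' => ?_, rfl⟩
    let b : W := ⟨y', hy'.mem_open W.2 a.2⟩
    have h1 := (primeIdealOf_le_iff hW b a).mpr hy'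
    have h2 := hP.2 ⟨(hW.primeIdealOf b).isPrime, bot_le⟩ h1
    have h3 : (hW.primeIdealOf b) = hW.primeIdealOf a := PrimeSpectrum.ext (le_antisymm h1 h2)
    have h4 := congrArg hW.fromSpec h3
    rwa [hW.fromSpec_primeIdealOf, hW.fromSpec_primeIdealOf] at h4
  exact ((h.preimage (fun a _ b _ hab => Subtype.ext hab)).image _).subset hsub

theorem finite_minimalPrimes_of_etale {R S : Type u} [CommRing R] [CommRing S] [Algebra R S]
    [Algebra.Etale R S] (h : (minimalPrimes R).Finite) : (minimalPrimes S).Finite := by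
  refine (h.biUnion fun p _ => Algebra.QuasiFinite.finite_primesOver (S := S) p).subset ?_
  intro P hP
  haveI := hP.1.1
  refine Set.mem_biUnion (x := P.under R) ?_ ⟨hP.1.1, ⟨rfl⟩⟩
  refine ⟨⟨inferInstance, bot_le⟩, fun p hp hle => ?_⟩
  haveI := hp.1
  obtain ⟨Q, hQP, hQ, hQp⟩ := Ideal.exists_ideal_le_liesOver_of_le (S := S) P hle
  haveI := hQ
  rw [show p = Q.under R from hQp.over]
  exact Ideal.comap_mono (hP.2 ⟨hQ, bot_le⟩ hQP)

theorem eventually_specializes' {T Y : Scheme.{u}} (g : T ⟶ Y) [Etale g] (hfin : LocFinComp Y)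
    (t : T) (hY : CAlg2.IsGeomUnibranch (Y.presheaf.stalk (g t))) (η : T) (hη : η ⤳ t)
    (hmax : ∀ η' : T, η' ⤳ η → η' = η) : ∀ᶠ x in 𝓝 t, η ⤳ x :=
  eventually_specializes_of_finite g (fun W U hW hU hUW => by
    algebraize [(g.appLE W U hUW).hom]
    haveI : Algebra.Etale Γ(Y, W) Γ(T, U) :=
      RingHom.etale_algebraMap.mp (g.etale_appLE hW hU hUW)
    exact finite_minimalPrimes_of_etale (hfin W hW)) t hY η hη hmax

/-- A quasi-finite morphism sending maximal points to maximal points of a geometrically unibranch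
scheme whose affine opens have finitely many components is universally open. -/
theorem universallyOpen_of_quasiFinite {X Y : Scheme.{u}} (f : X ⟶ Y) [LocallyQuasiFinite f]
    [LocallyOfFiniteType f] (hfin : LocFinComp Y)
    (hY : ∀ y : Y, CAlg2.IsGeomUnibranch (Y.presheaf.stalk y))
    (hdom : ∀ ξ : X, (∀ ξ', ξ' ⤳ ξ → ξ' = ξ) → ∀ y, y ⤳ f ξ → y = f ξ) :
    UniversallyOpen f := by
  refine universallyOpen_of_split f fun T g hg V hV v hv hvu => ?_
  haveI := hV
  haveI := locallyQuasiFinite_of_etale g
  obtain ⟨ζ, hζv, hζ⟩ := exists_max_specializes v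
  let η := pullback.snd f g ζ
  have hfst : ∀ x', x' ⤳ pullback.fst f g ζ → x' = pullback.fst f g ζ := by
    intro x' hx'
    obtain ⟨ζ', hζ', rfl⟩ := Flat.generalizingMap (pullback.fst f g) hx'
    rw [hζ ζ' hζ']
  have hgη : f (pullback.fst f g ζ) = g η := by
    rw [← Scheme.Hom.comp_apply, pullback.condition, Scheme.Hom.comp_apply]
  have hηt : η ⤳ pullback.snd f g v := hζv.map (pullback.snd f g).continuous
  have hmax : ∀ η', η' ⤳ η → η' = η := by
    intro η' h'
    have hg' : g η' = g η := by
      rw [← hgη]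
      exact hdom _ hfst _ (hgη ▸ h'.map g.continuous)
    haveI := isDiscrete_iff_discreteTopology.mp (g.isDiscrete_preimage_singleton (g η))
    exact congrArg Subtype.val (specializes_iff_eq.mp
      ((IsInducing.subtypeVal).specializes_iff (x := (⟨η', hg'⟩ : ↥(g ⁻¹' {g η})))
        (y := ⟨η, rfl⟩) |>.mp h'))
  refine Filter.mem_of_superset (eventually_specializes' g hfin _ (hY _) η hηt hmax) fun x hx => ?_
  have hcl : IsClosed (pullback.snd f g '' (V : Set ↑(pullback f g))) := by
    have h1 := (V.ι ≫ pullback.snd f g).isClosedMap.isClosed_range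
    have h2 : Set.range (V.ι ≫ pullback.snd f g) = pullback.snd f g '' (V : Set _) := by
      rw [← V.range_ι, ← Set.range_comp]; rfl
    rwa [h2] at h1
  exact hx.mem_closed hcl ⟨ζ, hζv.mem_open V.2 hv, rfl⟩

end Groth.Agent.ChevalleyOpen
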