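import Mathlib
import Groth.Agent.ChevalleyOpen.Algebra
import Groth.Agent.ChevalleyOpen.Qf
import Groth.Agent.GeomUniPoly.Poly
import Groth.Agent.DimFormulaLib.Fibre

/-!
# Chevalley's criterion, affine form

An algebra of finite type over a geometrically unibranch ring with finitely many minimal primes,
whose minimal primes lie over minimal primes with residue transcendence degree `e`, is universally
open near a prime at which the fibre has dimension `e`: it is quasi-finite there over `e`-dimensional
affine space, and every component dominates a component of that space.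
-/

set_option autoImplicit false
set_option linter.style.haveILetI false
set_option backward.isDefEq.respectTransparency false
set_option backward.defeqAttrib.useBackward true

open CategoryTheory AlgebraicGeometry MvPolynomial
open scoped TensorProduct

universe u

namespace Groth.Agent.ChevalleyOpen

theorem isMin_of_max {R : CommRingCat.{u}} (w : Spec R) (h : ∀ w', w' ⤳ w → w' = w) :
    IsMin (α := PrimeSpectrum R) w :=
  fun v hv => le_of_eq (α := PrimeSpectrum R) (h v ((PrimeSpectrum.le_iff_specializes _ _).1 hv)).symm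

theorem max_of_mem_minimalPrimes {R : CommRingCat.{u}} (w : Spec R)
    (h : w.asIdeal ∈ minimalPrimes R) : ∀ w', w' ⤳ w → w' = w := fun w' hw' => by
  have h1 : PrimeSpectrum.asIdeal w' ≤ w.asIdeal :=
    (PrimeSpectrum.le_iff_specializes _ _).2 hw'
  exact PrimeSpectrum.ext (le_antisymm h1 (h.2 ⟨w'.isPrime, bot_le⟩ h1))

theorem locFinComp_spec (R : CommRingCat.{u}) (h : (minimalPrimes R).Finite) :
    LocFinComp (Spec R) := by
  refine locFinComp_of_finite
    ((h.preimage (f := fun w : Spec R => w.asIdeal) fun _ _ _ _ hab => PrimeSpectrum.ext hab).subset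
      fun w hw => ?_)
  exact PrimeSpectrum.isMin_iff.1 (isMin_of_max w hw)

/-- A prime over a minimal prime of the base whose residue algebra has full transcendence degree is
the extension of that prime. -/
theorem eq_polyExt {A : Type u} [CommRing A] {n : ℕ} (p : Ideal A) [p.IsPrime]
    (Q : Ideal (MvPolynomial (Fin n) A)) [Q.IsPrime] [Q.LiesOver p]
    (htr : Algebra.trdeg (A ⧸ p) (MvPolynomial (Fin n) A ⧸ Q) = n) : Q = polyExt p := by
  have hp : p = Q.comap C := by
    rw [Q.over_def p]; rfl
  refine le_antisymm (fun f hf => ?_) (polyExt_le hp.le)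
  let π : MvPolynomial (Fin n) (A ⧸ p) →ₐ[A ⧸ p] (MvPolynomial (Fin n) A ⧸ Q) :=
    MvPolynomial.aeval fun i => Ideal.Quotient.mk Q (X i)
  have hmap : ∀ z, π (MvPolynomial.map (Ideal.Quotient.mk p) z) = Ideal.Quotient.mk Q z := by
    intro z
    rw [show MvPolynomial.map (Ideal.Quotient.mk p) z
      = MvPolynomial.map (algebraMap A (A ⧸ p)) z from rfl,
      show π (MvPolynomial.map (algebraMap A (A ⧸ p)) z) = _ from
        MvPolynomial.aeval_map_algebraMap _ _ z]
    exact (MvPolynomial.comp_aeval_apply (φ := Ideal.Quotient.mkₐ A Q) MvPolynomial.X z).symm.trans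
      (by rw [MvPolynomial.aeval_X_left_apply]; rfl)
  have hπ : Function.Surjective π := fun z => by
    obtain ⟨z, rfl⟩ := Ideal.Quotient.mk_surjective z
    exact ⟨_, hmap z⟩
  letI : SMul (A ⧸ p) (MvPolynomial (Fin n) A ⧸ Q) :=
    (Ideal.Quotient.algebraOfLiesOver Q p).toSMul
  haveI : FaithfulSMul (A ⧸ p) (MvPolynomial (Fin n) A ⧸ Q) :=
    Ideal.Quotient.instFaithfulSMul Q p
  refine (injective_of_surjective_of_trdeg π hπ htr) ?_
  rw [hmap, map_zero]
  exact Ideal.Quotient.eq_zero_iff_mem.mpr hf

/-- Chevalley's criterion near a point. -/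
theorem exists_universallyOpen_away {A B : Type u} [CommRing A] [CommRing B] [Algebra A B]
    [Algebra.FiniteType A B] (e : ℕ)
    (hA : ∀ p : PrimeSpectrum A, ∃ (R : Type u) (_ : CommRing R) (_ : IsLocalRing R)
      (_ : Algebra A R), IsLocalization.AtPrime R p.asIdeal ∧ CAlg2.IsGeomUnibranch R)
    (hfin : (minimalPrimes A).Finite)
    (hmin : ∀ P : PrimeSpectrum B, IsMin P →
      IsMin (PrimeSpectrum.comap (algebraMap A B) P) ∧
        Algebra.trdeg (A ⧸ (PrimeSpectrum.comap (algebraMap A B) P).asIdeal) (B ⧸ P.asIdeal) = e)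
    (q : Ideal B) [q.IsPrime] (p : Ideal A) [p.IsPrime] [q.LiesOver p]
    (Q : PrimeSpectrum (p.Fiber B))
    (hQ : Q.asIdeal.comap (Algebra.TensorProduct.includeRight : B →ₐ[A] p.Fiber B).toRingHom = q)
    (hn : FlatMor.localDim (PrimeSpectrum (p.Fiber B)) Q = e) :
    ∃ g ∉ q, UniversallyOpen
      (Spec.map (CommRingCat.ofHom (algebraMap A (Localization.Away g)))) := by
  obtain ⟨g, hgq, φ, hqf⟩ := DimFormulaLib.exists_quasiFinite_nhd q p Q hQ e hn
  refine ⟨g, hgq, ?_⟩
  let T := MvPolynomial (Fin e) A
  letI : Algebra T B := φ.toRingHom.toAlgebra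
  haveI : IsScalarTower A T B := .of_algebraMap_eq fun a => (φ.commutes a).symm
  haveI : Algebra.FiniteType T B := Algebra.FiniteType.of_restrictScalars_finiteType A _ _
  haveI : Algebra.FiniteType B (Localization.Away g) :=
    IsLocalization.finiteType_of_monoid_fg (Submonoid.powers g) _
  haveI : Algebra.FiniteType T (Localization.Away g) :=
    Algebra.FiniteType.trans (inferInstance : Algebra.FiniteType T B) ‹_›
  haveI := quasiFinite_away (T := T) g hqf
  let ψ := Spec.map (CommRingCat.ofHom (algebraMap T (Localization.Away g)))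
  let α := Spec.map (CommRingCat.ofHom (C (σ := Fin e) (R := A)))
  haveI : LocallyQuasiFinite ψ :=
    (HasRingHomProperty.Spec_iff (P := @LocallyQuasiFinite)).2
      (RingHom.quasiFinite_algebraMap.2 inferInstance)
  haveI : LocallyOfFiniteType ψ :=
    (HasRingHomProperty.Spec_iff (P := @LocallyOfFiniteType)).2
      (RingHom.finiteType_algebraMap.2 inferInstance)
  haveI : Flat α :=
    (HasRingHomProperty.Spec_iff (P := @Flat)).2
      (RingHom.flat_algebraMap_iff.2 (inferInstance : Module.Flat A T))
  haveI : LocallyOfFinitePresentation α :=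
    (HasRingHomProperty.Spec_iff (P := @LocallyOfFinitePresentation)).2
      (RingHom.finitePresentation_algebraMap.2 (inferInstance : Algebra.FinitePresentation A T))
  haveI : UniversallyOpen ψ := by
    refine universallyOpen_of_quasiFinite ψ
      (locFinComp_spec _ (finite_minimalPrimes_mvPolynomial hfin)) (fun w => ?_) (fun ξ hξ => ?_)
    · letI : Algebra T ((Spec (.of T)).presheaf.stalk w) := StructureSheaf.stalkAlgebra _ w
      haveI : IsLocalization.AtPrime ((Spec (.of T)).presheaf.stalk w) (PrimeSpectrum.asIdeal w) :=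
        StructureSheaf.IsLocalization.to_stalk _ w
      let p₀ : PrimeSpectrum A := PrimeSpectrum.comap C w
      obtain ⟨R₀, _, _, _, hR₀, hu⟩ := hA p₀
      exact GeomUniPoly.isGeomUnibranch_mvPolynomial_atPrime R₀
        (Fin e) p₀.asIdeal hu (PrimeSpectrum.asIdeal w) rfl _
    · refine max_of_mem_minimalPrimes _ ?_
      let P : PrimeSpectrum B := PrimeSpectrum.comap (algebraMap B (Localization.Away g)) ξ
      have hgP : g ∉ P.asIdeal := fun hg =>
        (PrimeSpectrum.isPrime ξ).ne_top (Ideal.eq_top_of_isUnit_mem _ hg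
          (IsLocalization.Away.algebraMap_isUnit g))
      have hP : IsMin P := by
        intro P' hP'
        obtain ⟨ξ', rfl⟩ : P' ∈ Set.range
            (PrimeSpectrum.comap (algebraMap B (Localization.Away g))) := by
          rw [PrimeSpectrum.localization_away_comap_range (Localization.Away g) g]
          exact fun hg => hgP (hP' hg)
        have h1 : PrimeSpectrum.asIdeal ξ' ≤ PrimeSpectrum.asIdeal ξ := by
          rw [← IsLocalization.map_under (Submonoid.powers g) (Localization.Away g)
              (PrimeSpectrum.asIdeal ξ'),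
            ← IsLocalization.map_under (Submonoid.powers g) (Localization.Away g)
              (PrimeSpectrum.asIdeal ξ)]
          exact Ideal.map_mono hP'
        rw [show ξ' = ξ from hξ ξ' ((PrimeSpectrum.le_iff_specializes _ _).1 h1)]
      obtain ⟨hp₀, htr⟩ := hmin P hP
      let PT : Ideal T := P.asIdeal.under T
      have hPT : PrimeSpectrum.asIdeal (ψ ξ) = PT := by
        show (PrimeSpectrum.asIdeal ξ).comap (algebraMap T (Localization.Away g)) = _
        rw [IsScalarTower.algebraMap_eq T B (Localization.Away g), ← Ideal.comap_comap]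
        rfl
      rw [hPT]
      let p₁ := (PrimeSpectrum.comap (algebraMap A B) P).asIdeal
      haveI : P.asIdeal.LiesOver PT := ⟨rfl⟩
      haveI : PT.LiesOver p₁ := ⟨(Ideal.under_under (A := A) (B := T) P.asIdeal).symm⟩
      haveI : P.asIdeal.LiesOver p₁ := ⟨rfl⟩
      haveI : Algebra.QuasiFiniteAt T P.asIdeal := hqf P.asIdeal hgP
      letI : SMul (A ⧸ p₁) (T ⧸ PT) := (Ideal.Quotient.algebraOfLiesOver PT p₁).toSMul
      letI : SMul (T ⧸ PT) (B ⧸ P.asIdeal) :=
        (Ideal.Quotient.algebraOfLiesOver P.asIdeal PT).toSMul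
      haveI : FaithfulSMul (A ⧸ p₁) (T ⧸ PT) := Ideal.Quotient.instFaithfulSMul PT p₁
      haveI : FaithfulSMul (T ⧸ PT) (B ⧸ P.asIdeal) := Ideal.Quotient.instFaithfulSMul P.asIdeal PT
      haveI : IsScalarTower (A ⧸ p₁) (T ⧸ PT) (B ⧸ P.asIdeal) :=
        IsScalarTower.of_algebraMap_eq fun a => by
          obtain ⟨a, rfl⟩ := Ideal.Quotient.mk_surjective a
          exact congrArg (Ideal.Quotient.mk P.asIdeal) (φ.commutes a).symm
      have htr' : Algebra.trdeg (A ⧸ p₁) (T ⧸ PT) = e := by
        rw [← trdeg_add_eq (A ⧸ p₁) (T ⧸ PT) (A := B ⧸ P.asIdeal),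
          DimFormulaLib.isAlgebraic_of_quasiFiniteAt (A := T) P.asIdeal, add_zero] at htr
        exact htr
      rw [eq_polyExt p₁ PT htr']
      exact polyExt_mem_minimalPrimes (PrimeSpectrum.isMin_iff.1 hp₀)
  rw [show Spec.map (CommRingCat.ofHom (algebraMap A (Localization.Away g))) = ψ ≫ α by
    rw [← Spec.map_comp, ← CommRingCat.ofHom_comp]
    congr 2
    exact IsScalarTower.algebraMap_eq A T (Localization.Away g)]
  infer_instance

end Groth.Agent.ChevalleyOpen
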