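import Mathlib
import Groth.Agent.ChevalleyOpen.Core
import Groth.Agent.GeomUniPoly.Scheme
import Groth.Agent.DimFormulaLib.Equidim

/-!
# Chevalley's criterion for morphisms of schemes
-/

set_option autoImplicit false
set_option linter.style.haveILetI false
set_option backward.isDefEq.respectTransparency false
set_option backward.defeqAttrib.useBackward true

open CategoryTheory AlgebraicGeometry TopologicalSpace

universe u

namespace Groth.Agent.ChevalleyOpen

open Groth.Agent.DimFormulaLib (Chart exists_chart)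

variable {X Y : Scheme.{u}}

/-- Universal openness is local on the source. -/
theorem universallyOpen_of_forall_exists (f : X ⟶ Y)
    (h : ∀ x : X, ∃ (Z : Scheme.{u}) (k : Z ⟶ X) (_ : IsOpenImmersion k),
      x ∈ Set.range k ∧ UniversallyOpen (k ≫ f)) : UniversallyOpen f := by
  choose Z k hk hx hu using h
  refine (IsZariskiLocalAtSource.iff_of_iSup_eq_top (P := @UniversallyOpen)
    (fun x => haveI := hk x; (k x).opensRange)
    (eq_top_iff.mpr fun x _ => Opens.mem_iSup.mpr ⟨x, hx x⟩)).mpr fun x => ?_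
  haveI := hk x
  haveI := hu x
  rw [← Scheme.Hom.isoOpensRange_inv_comp, Category.assoc]
  infer_instance

/-- Chevalley's criterion on a chart. -/
theorem exists_universallyOpen_nhd {f : X ⟶ Y} {x : X} (c : Chart f x) (e : ℕ)
    (hY : ∀ y : Y, CAlg2.IsGeomUnibranch (Y.presheaf.stalk y))
    (hfin : (minimalPrimes c.A).Finite)
    (hmin : ∀ P : PrimeSpectrum c.B, IsMin P →
      IsMin (PrimeSpectrum.comap (algebraMap c.A c.B) P) ∧
        Algebra.trdeg (c.A ⧸ (PrimeSpectrum.comap (algebraMap c.A c.B) P).asIdeal)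
          (c.B ⧸ P.asIdeal) = e)
    (hdim : FlatMor.fibreDimAt f x = e) :
    ∃ (Z : Scheme.{u}) (k : Z ⟶ X) (_ : IsOpenImmersion k),
      x ∈ Set.range k ∧ UniversallyOpen (k ≫ f) := by
  have hA : ∀ p : PrimeSpectrum c.A, ∃ (R : Type u) (_ : CommRing R) (_ : IsLocalRing R)
      (_ : Algebra c.A R), IsLocalization.AtPrime R p.asIdeal ∧ CAlg2.IsGeomUnibranch R := by
    intro p
    obtain ⟨a, hloc⟩ := GeomUniPoly.exists_algebra_stalk (Γ := .of c.A) c.i p
    exact ⟨_, inferInstance, inferInstance, a, hloc, hY _⟩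
  obtain ⟨g, hg, hopen⟩ := exists_universallyOpen_away e hA hfin hmin c.q.asIdeal c.p.asIdeal c.Q
    c.comap_Q (c.fibreDimAt_eq.symm.trans hdim)
  let l := Spec.map (CommRingCat.ofHom (algebraMap c.B (Localization.Away g)))
  haveI : IsOpenImmersion l := AlgebraicGeometry.IsOpenImmersion.of_isLocalization g
  refine ⟨_, l ≫ c.j, inferInstance, ?_, ?_⟩
  · obtain ⟨z, hz⟩ : c.q ∈ Set.range
        (PrimeSpectrum.comap (algebraMap c.B (Localization.Away g))) := by
      rw [PrimeSpectrum.localization_away_comap_range (Localization.Away g) g]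
      exact hg
    exact ⟨z, (congrArg c.j hz).trans c.hq⟩
  · haveI := hopen
    rw [Category.assoc, c.w, ← Category.assoc, ← Spec.map_comp, ← CommRingCat.ofHom_comp,
      ← IsScalarTower.algebraMap_eq]
    infer_instance

/-- EGA IV 14.4.4: an equidimensional morphism to a geometrically unibranch locally noetherian scheme
is universally open. -/
theorem universallyOpen_of_isEquidimAt [IsLocallyNoetherian Y]
    (hY : ∀ y : Y, CAlg2.IsGeomUnibranch (Y.presheaf.stalk y)) (f : X ⟶ Y) [LocallyOfFiniteType f]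
    (h : ∀ x : X, EGA43.IsEquidimAt f x) : UniversallyOpen f := by
  refine universallyOpen_of_forall_exists f fun x => ?_
  obtain ⟨e, U, hxU, hW, hfib⟩ := h x
  obtain ⟨c⟩ := exists_chart (U.ι ≫ f) ⟨x, hxU⟩
  haveI := c.isNoetherianRing
  have hdim : FlatMor.fibreDimAt (U.ι ≫ f) ⟨x, hxU⟩ = e := by
    obtain ⟨P, n, hP, -, hmin, hn, hn'⟩ := c.exists_component
    rw [hn', DimFormulaLib.trdeg_eq_of_minInFibre (U.ι ≫ f) c e hfib hP hmin n hn]
  obtain ⟨Z, k, hk, hxk, hopen⟩ := exists_universallyOpen_nhd c e hY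
    (minimalPrimes.finite_of_isNoetherianRing c.A) (fun P hP => by
      refine ⟨fun p' hp' => ?_, ?_⟩
      · have hξ := ((c.move P).isMin_iff (le_refl P)).1 hP
        obtain ⟨W, hW', -, hWc⟩ := hW _ (DimFormulaLib.closure_mem_irreducibleComponents hξ)
        obtain ⟨η, hη, hηmin⟩ := DimFormulaLib.exists_generic_of_mem_irreducibleComponents hW'
        have h1 : closure {(U.ι ≫ f) (c.j P)} = W := by
          rw [← hWc]
          rw [closure_image_closure (U.ι ≫ f).continuous, Set.image_singleton]
          rfl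
        have h2 : (U.ι ≫ f) (c.j P) = η :=
          (show IsGenericPoint ((U.ι ≫ f) (c.j P)) W from h1).eq (show IsGenericPoint η W from hη)
        have h3 : c.i (PrimeSpectrum.comap (algebraMap c.A c.B) P) = η :=
          (c.apply_j P).symm.trans h2
        have h4 : c.i p' ⤳ η := by
          rw [← h3]
          exact ((PrimeSpectrum.le_iff_specializes _ _).1 hp').map c.i.continuous
        exact (show p' = _ from c.i.isOpenEmbedding.injective ((hηmin _ h4).trans h3.symm)).ge
      · obtain ⟨t, ht⟩ := DimFormulaLib.exists_nat_trdeg_quotient_pair (A := c.A) P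
        rw [ht, DimFormulaLib.trdeg_eq_of_minInFibre (U.ι ≫ f) (c.move P) e hfib (P := P)
          (le_refl P) ((c.move P).minInFibre_of_isMin hP) t ht]) hdim
  refine ⟨Z, k ≫ U.ι, inferInstance, ?_, by rwa [Category.assoc]⟩
  obtain ⟨z, hz⟩ := hxk
  exact ⟨z, by rw [Scheme.Hom.comp_apply, hz]; rfl⟩

end Groth.Agent.ChevalleyOpen
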