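import Mathlib
import Groth.Agent.ChevalleyOpen.Scheme
import Groth.Agent.DimFormulaLib.Field
import Groth.Agent.UnivOpenAtLib.Dvr

/-!
# Chevalley's criterion without Noetherian hypotheses on the base
-/

set_option autoImplicit false
set_option linter.style.haveILetI false
set_option backward.isDefEq.respectTransparency false
set_option backward.defeqAttrib.useBackward true

open CategoryTheory AlgebraicGeometry TopologicalSpace Topology

universe u

namespace Groth.Agent.ChevalleyOpen

open Groth.Agent.DimFormulaLib (Chart exists_chart)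

variable {X Y : Scheme.{u}}

theorem exists_nat_localDim_chart {f : X ⟶ Y} {x : X} (c : Chart f x) :
    ∃ n : ℕ, FlatMor.localDim (PrimeSpectrum (c.p.asIdeal.Fiber c.B)) c.Q = n := by
  obtain ⟨r, hr⟩ := DimFormulaLib.exists_nat_trdeg_quotient c.p.asIdeal.ResidueField
    (c.p.asIdeal.Fiber c.B) c.Q.asIdeal
  obtain ⟨a, -, hd, -⟩ := DimFormulaLib.localDim_eq_height_add c.p.asIdeal.ResidueField
    (c.p.asIdeal.Fiber c.B) c.Q r hr
  exact ⟨a + r, hd⟩

theorem exists_nat_fibreDimAt' (f : X ⟶ Y) [LocallyOfFiniteType f] (x : X) :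
    ∃ n : ℕ, FlatMor.fibreDimAt f x = (n : WithBot ℕ∞) := by
  obtain ⟨c⟩ := exists_chart f x
  obtain ⟨n, hn⟩ := exists_nat_localDim_chart c
  exact ⟨n, c.fibreDimAt_eq.trans hn⟩

/-- At a generic point of a component of a scheme over a field the local dimension is the dimension
of the component. -/
theorem localDim_eq_of_max {k : Type u} [Field k] {F : Scheme.{u}}
    (π : F ⟶ Spec (CommRingCat.of k)) [LocallyOfFiniteType π] (z : F)
    (hz : ∀ w : F, w ⤳ z → w = z) :
    FlatMor.localDim ↥F z = topologicalKrullDim ↥(closure ({z} : Set F)) := by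
  obtain ⟨a, t, ha, -, hloc, hh⟩ := DimFormulaLib.field_dims π z
  have h0 : Order.coheight z = 0 := Order.coheight_eq_zero.2 fun w hw => by
    rw [hz w (Scheme.le_iff_specializes.1 hw)]
  have ha0 : a = 0 := by
    rw [ringKrullDim_stalk_eq_coheight, h0] at ha
    exact_mod_cast ha.symm
  rw [DimFormulaLib.topologicalKrullDim_closure_singleton z, hh, hloc, ha0, zero_add]
  rfl

/-- If all components of all fibres have dimension `e`, so has every fibre at every point. -/
theorem fibreDimAt_eq_of_components (f : X ⟶ Y) [LocallyOfFiniteType f] (e : ℕ)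
    (he : ∀ x' : X, ∀ Z ∈ irreducibleComponents ↥(f.fiber (f x')), topologicalKrullDim ↥Z = e)
    (x : X) : FlatMor.fibreDimAt f x = (e : WithBot ℕ∞) := by
  obtain ⟨c⟩ := exists_chart f x
  obtain ⟨n, hn⟩ := exists_nat_localDim_chart c
  obtain ⟨P, hPq, hPp, hmin, hPn⟩ := DimFormulaLib.exists_fibre_component c.q c.Q c.comap_Q n hn
  let x' := c.j P
  obtain ⟨m, hm⟩ := exists_nat_localDim_chart (c.move P)
  obtain ⟨P', hP', hP'p, -, hP'm⟩ :=
    DimFormulaLib.exists_fibre_component (A := c.A) (B := c.B) P (c.move P).Q (c.move P).comap_Q m hm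
  rw [hmin P' hP' (hP'p.trans hPp), hPn] at hP'm
  have hnm : n = m := by exact_mod_cast hP'm
  haveI : LocallyOfFiniteType (f.fiberToSpecResidueField (f x')) :=
    MorphismProperty.pullback_snd _ _ ‹LocallyOfFiniteType f›
  let z := f.asFiber x'
  have hzmax : ∀ w, w ⤳ z → w = z := fun w hw => by
    have hz : (f.fiberHomeo (f x') z).1 = x' := f.fiberι_asFiber x'
    have h1 : (f.fiberHomeo (f x') w).1 ⤳ x' :=
      Eq.mp (congrArg (fun v => (f.fiberHomeo (f x') w).1 ⤳ v) hz)
        (hw.map (continuous_subtype_val.comp (f.fiberHomeo _).continuous))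
    obtain ⟨P₂, -, hP₂⟩ := c.exists_le (h1.trans (c.specializes hPq))
    have h2 : P₂ = P := by
      refine hmin P₂ ((PrimeSpectrum.le_iff_specializes _ _).2
        (c.j.isOpenEmbedding.isInducing.specializes_iff.1 (hP₂.symm ▸ h1))) ?_
      rw [← hPp]
      refine c.i.isOpenEmbedding.injective ?_
      rw [← c.apply_j, ← c.apply_j, hP₂]
      exact (f.fiberHomeo _ w).2
    refine (f.fiberHomeo _).injective (Subtype.ext ?_)
    rw [hz, ← hP₂, h2]
  have h3 : FlatMor.fibreDimAt f x' = (e : WithBot ℕ∞) :=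
    (localDim_eq_of_max (k := Y.residueField (f x')) (f.fiberToSpecResidueField (f x')) z hzmax).trans
      (he x' _ (DimFormulaLib.closure_mem_irreducibleComponents hzmax))
  have h4 : (m : WithBot ℕ∞) = e := by
    rw [← hm, ← (c.move P).fibreDimAt_eq]
    exact h3
  rw [c.fibreDimAt_eq, hn, hnm, h4]

theorem finite_minimalPrimes_chart {f : X ⟶ Y} {x : X} (c : Chart f x) (h : LocFinComp Y) :
    (minimalPrimes c.A).Finite := by
  have h1 := h _ ((isAffineOpen_top _).image_of_isOpenImmersion c.i)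
  let e : Γ(Y, c.i ''ᵁ ⊤) ≃+* c.A :=
    (c.i.appIso ⊤).commRingCatIsoToRingEquiv.trans (Scheme.ΓSpecIso (.of c.A)).commRingCatIsoToRingEquiv
  refine Set.Finite.of_finite_image (f := fun P : Ideal c.A => P.comap (e : Γ(Y, c.i ''ᵁ ⊤) →+* c.A))
    (h1.subset ?_) (fun _ _ _ _ hPQ => Ideal.comap_injective_of_surjective _ e.surjective hPQ)
  rintro _ ⟨P, hP, rfl⟩
  haveI := hP.1.1
  refine ⟨⟨inferInstance, bot_le⟩, fun Q hQ hle => ?_⟩
  haveI := hQ.1
  intro y hy
  have h2 := hP.2 (y := Q.comap (e.symm : c.A →+* Γ(Y, c.i ''ᵁ ⊤)))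
    ⟨inferInstance, bot_le⟩ (fun b hb => by
      have h3 : e (e.symm b) ∈ P := Ideal.mem_comap.1 (hle (show e.symm b ∈ Q from hb))
      rwa [e.apply_symm_apply] at h3)
  have h3 : e.symm (e y) ∈ Q := Ideal.mem_comap.1 (h2 (Ideal.mem_comap.1 hy))
  rwa [e.symm_apply_apply] at h3

/-- Chevalley's criterion: constant fibre dimension, maximal points going to maximal points. -/
theorem universallyOpen_of_fibreDimAt (hY : ∀ y : Y, CAlg2.IsGeomUnibranch (Y.presheaf.stalk y))
    (hfin : LocFinComp Y) (f : X ⟶ Y) [LocallyOfFiniteType f] (e : ℕ)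
    (hdom : ∀ ξ : X, (∀ ξ', ξ' ⤳ ξ → ξ' = ξ) → ∀ y, y ⤳ f ξ → y = f ξ)
    (hdim : ∀ x, FlatMor.fibreDimAt f x = (e : WithBot ℕ∞)) : UniversallyOpen f := by
  refine universallyOpen_of_forall_exists f fun x => ?_
  obtain ⟨c⟩ := exists_chart f x
  refine exists_universallyOpen_nhd c e hY (finite_minimalPrimes_chart c hfin) (fun P hP => ?_)
    (hdim x)
  refine ⟨fun p' hp' => ?_, ?_⟩
  · have h2 : c.i p' ⤳ f (c.j P) := by
      rw [c.apply_j]
      exact ((PrimeSpectrum.le_iff_specializes _ _).1 hp').map c.i.continuous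
    have h3 := hdom _ (((c.move P).isMin_iff (le_refl P)).1 hP) _ h2
    exact (show p' = _ from c.i.isOpenEmbedding.injective (h3.trans (c.apply_j P))).ge
  · obtain ⟨P', hP', -, -, hP'n⟩ := DimFormulaLib.exists_fibre_component (A := c.A) (B := c.B) P
      (c.move P).Q (c.move P).comap_Q e (((c.move P).fibreDimAt_eq.symm.trans (hdim _)))
    rw [le_antisymm hP' (hP hP')] at hP'n
    exact hP'n

theorem locFinComp_of_finite_components {S : Scheme.{u}}
    (hfin : (irreducibleComponents (S : Type u)).Finite) : LocFinComp S := by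
  refine locFinComp_of_finite (Set.Finite.of_finite_image (f := fun y => closure ({y} : Set S))
    (hfin.subset ?_) ?_)
  · rintro _ ⟨y, hy, rfl⟩
    exact DimFormulaLib.closure_mem_irreducibleComponents hy
  · intro a _ b _ hab
    exact (show IsGenericPoint a (closure ({a} : Set S)) from rfl).eq
      (show IsGenericPoint b (closure ({a} : Set S)) from hab.symm)

/-- EGA IV 14.4.4 over a base with finitely many components. -/
theorem univOpenAt_of_isEquidimAt (hY : ∀ y : Y, CAlg2.IsGeomUnibranch (Y.presheaf.stalk y))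
    (hfin : LocFinComp Y) (f : X ⟶ Y) [LocallyOfFiniteType f] (x : X) (h : EGA43.IsEquidimAt f x) :
    EGA43.IsUnivOpenAt f x := by
  obtain ⟨e, U, hxU, hW, hfib⟩ := h
  haveI : UniversallyOpen (U.ι ≫ f) := by
    refine universallyOpen_of_fibreDimAt hY hfin (U.ι ≫ f) e (fun ξ hξ y hy => ?_)
      (fibreDimAt_eq_of_components (U.ι ≫ f) e hfib)
    obtain ⟨W, hW', -, hWc⟩ := hW _ (DimFormulaLib.closure_mem_irreducibleComponents hξ)
    obtain ⟨η, hη, hηmin⟩ := DimFormulaLib.exists_generic_of_mem_irreducibleComponents hW'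
    have h1 : closure {(U.ι ≫ f) ξ} = W := by
      rw [← hWc, closure_image_closure (U.ι ≫ f).continuous, Set.image_singleton]
    have h2 : (U.ι ≫ f) ξ = η :=
      (show IsGenericPoint ((U.ι ≫ f) ξ) W from h1).eq (show IsGenericPoint η W from hη)
    rw [h2] at hy ⊢
    exact hηmin y hy
  exact UnivOpenAtLib.univOpenAt_of_comp
    (UnivOpenAtLib.universallyOpen_iff_forall.1 ‹UniversallyOpen (U.ι ≫ f)› ⟨x, hxU⟩)

end Groth.Agent.ChevalleyOpen
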